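import Cfsg.Agent.Lib.ToddCox.Glue
set_option autoImplicit false
set_option maxRecDepth 100000
namespace Cfsg.Agent.Lib.ToddCox.A82C1
def E_0 : ℕ := 0x60800001800001820000060000061000001800001840000060000060400001800001810000060000060000001000001000000060000040400001000001010000040000050000001400001400000050000030000000c00000c00000030000051000001000001040000050000050c00001400001430000050000050400000c00000c10000050000040800001000001020000040000030c00000c00000c30000030000031000000c00000c40000030000021000000800000840000020000020400000400000410000020000000c00000000000030000000000000800000000000020000000000000400000000000010000000000000000000000000000000000000020c00001800001830000020000020800001400001420000020000010c00001000001030000010000010800000c00000c2000001000001000000080000080000001000000100000040000044000000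
end Cfsg.Agent.Lib.ToddCox.A82C1
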