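import Cfsg.Agent.Lib.ToddCox.A82C1.Data
set_option autoImplicit false
set_option maxRecDepth 100000
namespace Cfsg.Agent.Lib.ToddCox.A82C1
theorem wordsGood : allBelow (wordsOK W (relR Rb inv) inv sp) nW 4 = true := by decide +kernel
theorem d0 : allBits (fun k => bif Nat.blt k 6 then chkDef Eo inv k else true) 13 0 = true := by decide +kernel
theorem s0 : chkStream Eo inv W isH 19 6 0xbc00005a00000a000001000001400003000001e000010000009800001000001600000a800001c00005400000e00000500000580000120000200000118000018000000000011000009800000400000e000022000004000002c00001a00000a00000a800000c00001200002000000f800006800003c000026000004000002c00001800000a00000a800000c000012000020000013000008000003e000024000002000001c00001600002200001380000200000040000000000080000038000002000003000004800009800004600001c000005000002000002c000002000000000003400000200000500000f000002400003c00000800000b000000800000000000d0000008000014000010000008000001000000000001a000011000000800001c00000e000008000001000001400003400001e000003000002000002a000005000002800001800000a00001a000002000001c000008000004000000000003400001e000001000002800000c000008000000000008800000400000a000002000001000000000002200000d000007800004400000200000300000080000080000000000110000098000044000002000000fffffffffffffffffffffffff = true := by decide +kernel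
theorem c0 : Covered Eo inv W isH 6 25 := covered_of_stream 19 6 _ s0
theorem l0 : chkPoints Eo cF (2 * nEv) N ys 7 0 0x5e000006000005800000800006200000600001680000180000540000040000110000010000042000005000004800000800003c0000030000138000014000046000005000003800000400003a000004000014800001000005600000600000c800000c000036000003000002800000400003e000005000012800000c00002e000002000005000001800001000000500000a0000004000006000001000000800000000000c000004000002000000c00002a000002000001000000800000000000100000900000000000200000000000070000000000018000000 = true := by decide +kernel
theorem k0 : LinksOK Eo cF (2 * nEv) N ys 0 7 := linksOK_of_points 7 0 _ l0
end Cfsg.Agent.Lib.ToddCox.A82C1
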